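import Groth.Agent.L13.Purity.ComplAlg

/-! Gluing a finite algebra over the completion with an algebra on the punctured spectrum. -/

set_option autoImplicit false
set_option linter.style.haveILetI false
set_option backward.isDefEq.respectTransparency.types false

universe u

open TensorProduct Groth.L13.Purity.ComplAlg

namespace Groth.L16.FiniteGlue

theorem exists_glue {A Ah C C' B : Type u} [CommRing A] [IsNoetherianRing A] [CommRing Ah] [Algebra A Ah]
    [Module.FaithfullyFlat A Ah] [CommRing C] [Algebra A C] [CommRing C'] [Algebra A C'] [Algebra Ah C'] [Algebra C C']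
    [IsScalarTower A Ah C'] [IsScalarTower A C C'] [Algebra.IsPushout A Ah C C']
    [CommRing B] [Algebra A B] [Algebra Ah B] [IsScalarTower A Ah B] [Module.Finite Ah B]
    (m : Ideal A) (h1 : ∀ a : Ah, ∃ a0 : A, a - algebraMap A Ah a0 ∈ m.map (algebraMap A Ah))
    (ρ : B →ₐ[Ah] C') (s : Finset A) (hs : m ≤ (Ideal.span (s : Set A)).radical)
    (hsurj : ∀ h ∈ s, ∀ c : C', ∃ n : ℕ, ∃ b : B, ρ b = h ^ n • c)
    (hinj : ∀ h ∈ s, ∀ b : B, ρ b = 0 → ∃ n : ℕ, h ^ n • b = 0) :
    ∃ (S : Type u) (_ : CommRing S) (_ : Algebra A S) (φ : S →ₐ[A] C),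
      Module.Finite A S ∧ Nonempty (Ah ⊗[A] S ≃ₐ[Ah] B) ∧
      ∀ h ∈ s, (∀ c : C, ∃ n : ℕ, ∃ x : S, φ x = h ^ n • c) ∧
        ∀ x : S, φ x = 0 → ∃ n : ℕ, h ^ n • x = 0 := by
  classical
  let M : Subalgebra A (C × B) := AlgHom.equalizer
    ((IsScalarTower.toAlgHom A C C').comp (AlgHom.fst A C B)) ((ρ.restrictScalars A).comp (AlgHom.snd A C B))
  let T1 := LinearMap.ker ρ.toLinearMap
  let T2 := C' ⧸ LinearMap.range ρ.toLinearMap
  have hT1 : ∀ x : T1, ∃ n : ℕ, ∀ a ∈ m ^ n, a • x = 0 := fun x =>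
    exists_pow_annihilates m s hs x fun h hh => by
      obtain ⟨n, hn⟩ := hinj h hh x x.2
      exact ⟨n, Subtype.ext hn⟩
  have hT2 : ∀ x : T2, ∃ n : ℕ, ∀ a ∈ m ^ n, a • x = 0 := fun x =>
    exists_pow_annihilates m s hs x fun h hh => by
      obtain ⟨c, rfl⟩ := Submodule.Quotient.mk_surjective _ x
      obtain ⟨n, b, hb⟩ := hsurj h hh c
      exact ⟨n, (Submodule.Quotient.mk_eq_zero _).2 ⟨b, hb⟩⟩
  -- the top row
  let f1 : T1 →ₗ[A] M :=
    { toFun := fun t => ⟨(0, (t : B)), by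
        show algebraMap C C' 0 = ρ t
        rw [map_zero]; exact t.2.symm⟩
      map_add' := fun a b => Subtype.ext (Prod.ext (add_zero 0).symm rfl)
      map_smul' := fun a t => Subtype.ext (Prod.ext (smul_zero a).symm rfl) }
  let f2 : M →ₗ[A] C := ((AlgHom.fst A C B).comp M.val).toLinearMap
  let f3 : C →ₗ[A] T2 := ((LinearMap.range ρ.toLinearMap).mkQ.restrictScalars A).comp (IsScalarTower.toAlgHom A C C').toLinearMap
  have e12 : Function.Exact f1 f2 := by
    intro z
    constructor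
    · intro hz
      refine ⟨⟨z.1.2, ?_⟩, Subtype.ext (Prod.ext (show (0 : C) = z.1.1 from hz.symm) rfl)⟩
      show ρ z.1.2 = 0
      rw [← show algebraMap C C' z.1.1 = ρ z.1.2 from z.2, show z.1.1 = 0 from hz, map_zero]
    · rintro ⟨t, rfl⟩; rfl
  have e23 : Function.Exact f2 f3 := by
    intro c
    constructor
    · intro hc
      obtain ⟨b, hb⟩ := (Submodule.Quotient.mk_eq_zero _).1 hc
      exact ⟨⟨(c, b), hb.symm⟩, rfl⟩
    · rintro ⟨z, rfl⟩
      exact (Submodule.Quotient.mk_eq_zero _).2 ⟨z.1.2, (show algebraMap C C' z.1.1 = ρ z.1.2 from z.2).symm⟩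
  have e1inj : Function.Injective f1 := fun a b hab => Subtype.ext (congrArg (fun z : M => z.1.2) hab)
  -- the comparison
  let μ : Ah ⊗[A] M →ₐ[Ah] B := Algebra.TensorProduct.lift (Algebra.ofId Ah B) ((AlgHom.snd A C B).comp M.val) (fun _ _ => mul_comm _ _)
  let i1 : Ah ⊗[A] T1 →ₗ[A] T1 := (LinearMap.liftBaseChange Ah (LinearMap.id : T1 →ₗ[A] T1)).restrictScalars A
  let i2 : Ah ⊗[A] M →ₗ[A] B := μ.toLinearMap.restrictScalars A
  let i3 : Ah ⊗[A] C →ₗ[A] C' := ((Algebra.IsPushout.equiv A Ah C C').toLinearMap).restrictScalars A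
  let i4 : Ah ⊗[A] T2 →ₗ[A] T2 := (LinearMap.liftBaseChange Ah (LinearMap.id : T2 →ₗ[A] T2)).restrictScalars A
  have c1 : ∀ z, μ (f1.lTensor Ah z) = (i1 z : B) := fun z => by
    induction z using TensorProduct.induction_on with
    | zero => simp
    | add a b ha hb => rw [map_add, map_add, map_add, ha, hb]; rfl
    | tmul r x => simp [μ, i1, f1, Algebra.smul_def, Algebra.ofId_apply]
  have c2 : ∀ z, i3 (f2.lTensor Ah z) = ρ (μ z) := fun z => by
    induction z using TensorProduct.induction_on with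
    | zero => simp
    | add a b ha hb => rw [map_add, map_add, map_add, map_add, ha, hb]
    | tmul r x =>
      show Algebra.IsPushout.equiv A Ah C C' (r ⊗ₜ[A] x.1.1) = ρ (μ (r ⊗ₜ x))
      rw [Algebra.IsPushout.equiv_tmul, show algebraMap C C' x.1.1 = ρ x.1.2 from x.2]
      simp [μ, Algebra.ofId_apply]
  have c3 : ∀ z, i4 (f3.lTensor Ah z) = Submodule.Quotient.mk (i3 z) := fun z => by
    induction z using TensorProduct.induction_on with
    | zero => simp
    | add a b ha hb => rw [map_add, map_add, map_add, ha, hb]; rfl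
    | tmul r x =>
      show r • (Submodule.Quotient.mk (algebraMap C C' x) : T2) = Submodule.Quotient.mk (Algebra.IsPushout.equiv A Ah C C' (r ⊗ₜ[A] x))
      rw [Algebra.IsPushout.equiv_tmul, ← Algebra.smul_def, Submodule.Quotient.mk_smul]
  have hbij : Function.Bijective μ := by
    constructor
    · rw [injective_iff_map_eq_zero]
      intro z hz
      have h2 : f2.lTensor Ah z = 0 := (Algebra.IsPushout.equiv A Ah C C').injective (by
        show i3 (f2.lTensor Ah z) = Algebra.IsPushout.equiv A Ah C C' 0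
        rw [c2, hz, map_zero, map_zero])
      obtain ⟨t, rfl⟩ := (Module.Flat.lTensor_exact Ah e12 z).1 h2
      have h3 : i1 t = 0 := Subtype.ext ((c1 t).symm.trans hz)
      rw [(bijective_of_torsion m h1 hT1).1 (h3.trans (map_zero i1).symm), map_zero]
    · intro b
      obtain ⟨w, hw⟩ := (Algebra.IsPushout.equiv A Ah C C').surjective (ρ b)
      have h4 : f3.lTensor Ah w = 0 := (bijective_of_torsion m h1 hT2).1 (by
        show i4 (f3.lTensor Ah w) = i4 0
        rw [c3, map_zero, show i3 w = ρ b from hw]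
        exact (Submodule.Quotient.mk_eq_zero _).2 ⟨b, rfl⟩)
      obtain ⟨z, rfl⟩ := (Module.Flat.lTensor_exact Ah e23 w).1 h4
      have hk : b - μ z ∈ T1 := by
        show ρ (b - μ z) = 0
        rw [map_sub, ← c2, show i3 (f2.lTensor Ah z) = ρ b from hw, sub_self]
      obtain ⟨t, ht⟩ := (bijective_of_torsion (K := T1) m h1 hT1).2 ⟨b - μ z, hk⟩
      refine ⟨z + f1.lTensor Ah t, ?_⟩
      rw [map_add, c1, show i1 t = ⟨_, hk⟩ from ht]
      simp
  let e := AlgEquiv.ofBijective μ hbij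
  haveI : Module.Finite Ah (Ah ⊗[A] M) := Module.Finite.equiv e.symm.toLinearEquiv
  refine ⟨M, inferInstance, inferInstance, (AlgHom.fst A C B).comp M.val,
    Module.Finite.of_finite_tensorProduct_of_faithfullyFlat Ah,
    ⟨e⟩, fun h hh => ⟨fun c => ?_, fun x hx => ?_⟩⟩
  · obtain ⟨n, b, hb⟩ := hsurj h hh (algebraMap C C' c)
    refine ⟨n, ⟨(h ^ n • c, b), ?_⟩, rfl⟩
    show algebraMap C C' (h ^ n • c) = ρ b
    rw [hb]; exact map_smul (IsScalarTower.toAlgHom A C C') _ _
  · obtain ⟨n, hn⟩ := hinj h hh x.1.2 (by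
      rw [← show algebraMap C C' x.1.1 = ρ x.1.2 from x.2, show x.1.1 = 0 from hx, map_zero])
    refine ⟨n, Subtype.ext (Prod.ext ?_ hn)⟩
    show h ^ n • x.1.1 = 0
    rw [show x.1.1 = 0 from hx, smul_zero]

end Groth.L16.FiniteGlue
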