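import Groth.Agent.L13.Purity.Spread

/-! An algebra model of a scheme over a quasi-affine open of an affine scheme. -/

set_option autoImplicit false
set_option linter.style.haveILetI false
set_option backward.isDefEq.respectTransparency.types false

universe u

open CategoryTheory CategoryTheory.Limits AlgebraicGeometry TopologicalSpace
open Groth.L13.Purity

namespace Groth.L16.FiniteGlue

/-- The morphism from `W` to the spectrum of an algebra mapping to its sections. -/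
theorem exists_openImmersion {A : Type u} [CommRing A] {W : Scheme.{u}}
    (w : W ⟶ Spec (CommRingCat.of A)) [CompactSpace W] [NoetherianSpace W] [QuasiSeparatedSpace W]
    (s : Finset A)
    (hcover : ∀ p : W, ∃ h ∈ s, w p ∈ (PrimeSpectrum.basicOpen h : (Spec (CommRingCat.of A)).Opens))
    (haff : ∀ h ∈ s, IsAffineOpen (w ⁻¹ᵁ (PrimeSpectrum.basicOpen h : (Spec (CommRingCat.of A)).Opens)))
    (S : Type u) [CommRing S] [Algebra A S] :
    letI : Algebra A Γ(W, w ⁻¹ᵁ ⊤) := ((Scheme.ΓSpecIso (CommRingCat.of A)).inv ≫ w.app ⊤).hom.toAlgebra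
    ∀ (φ : S →ₐ[A] Γ(W, w ⁻¹ᵁ ⊤)),
      (∀ h ∈ s, (∀ c : Γ(W, w ⁻¹ᵁ ⊤), ∃ n : ℕ, ∃ x : S, φ x = h ^ n • c) ∧
        ∀ x : S, φ x = 0 → ∃ n : ℕ, h ^ n • x = 0) →
    ∃ i : W ⟶ Spec (CommRingCat.of S), IsOpenImmersion i ∧
      i ≫ Spec.map (CommRingCat.ofHom (algebraMap A S)) = w ∧
      ∀ η : Spec (CommRingCat.of S), (∃ h ∈ s, Spec.map (CommRingCat.ofHom (algebraMap A S)) η ∈
        (PrimeSpectrum.basicOpen h : (Spec (CommRingCat.of A)).Opens)) → η ∈ Set.range i := by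
  letI : Algebra A Γ(W, w ⁻¹ᵁ ⊤) := ((Scheme.ΓSpecIso (CommRingCat.of A)).inv ≫ w.app ⊤).hom.toAlgebra
  intro φ hiso
  let X := Spec (CommRingCat.of A)
  let iA := (Scheme.ΓSpecIso (CommRingCat.of A)).inv
  let y : Spec (CommRingCat.of S) ⟶ X := Spec.map (CommRingCat.ofHom (algebraMap A S))
  let i : W ⟶ Spec (CommRingCat.of S) := W.toSpecΓ ≫ Spec.map (CommRingCat.ofHom φ.toRingHom)
  have hφ : CommRingCat.ofHom (algebraMap A S) ≫ CommRingCat.ofHom φ.toRingHom = iA ≫ w.app ⊤ := by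
    ext r
    exact φ.commutes r
  have hiy : i ≫ y = w := by
    simp only [i, y, Category.assoc]
    rw [← Spec.map_comp]
    refine (congrArg (fun t => W.toSpecΓ ≫ Spec.map t) hφ).trans ?_
    show W.toSpecΓ ≫ Spec.map (iA ≫ w.appTop) = w
    rw [Spec.map_comp]
    erw [← Scheme.toSpecΓ_naturality_assoc w]
    have : X.toSpecΓ ≫ Spec.map iA = 𝟙 X := by
      rw [← SpecMap_ΓSpecIso_hom, ← Spec.map_comp, Iso.inv_hom_id, Spec.map_id]
    rw [this, Category.comp_id]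
  let O : s → (Spec (CommRingCat.of S)).Opens := fun h => PrimeSpectrum.basicOpen (algebraMap A S h.1)
  have hyO : ∀ h : s, y ⁻¹ᵁ (PrimeSpectrum.basicOpen h.1 : X.Opens) = O h := fun h => rfl
  have hiO : ∀ h : s, i ⁻¹ᵁ O h = w ⁻¹ᵁ (PrimeSpectrum.basicOpen h.1 : X.Opens) := fun h => by
    rw [← hyO, ← Scheme.Hom.comp_preimage, hiy]
  have hpieces : ∀ h : s, IsOpenImmersion ((i ⁻¹ᵁ O h).ι ≫ i) ∧ Set.range ((i ⁻¹ᵁ O h).ι ≫ i) = O h := by
    intro h
    rw [hiO]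
    let O' : W.Opens := w ⁻¹ᵁ (PrimeSpectrum.basicOpen h.1 : X.Opens)
    have hO'aff : IsAffineOpen O' := haff h.1 h.2
    have hle : O' ≤ w ⁻¹ᵁ ⊤ := le_top
    have hO'b : O' = W.basicOpen (algebraMap A Γ(W, w ⁻¹ᵁ ⊤) h.1) := by
      show w ⁻¹ᵁ _ = W.basicOpen ((w.app ⊤).hom (iA.hom h.1))
      rw [← Scheme.preimage_basicOpen, basicOpen_eq_of_affine (R := CommRingCat.of A)]
    letI : Algebra Γ(W, w ⁻¹ᵁ ⊤) Γ(W, O') := (W.presheaf.map (homOfLE hle).op).hom.toAlgebra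
    haveI : IsLocalization.Away (algebraMap A Γ(W, w ⁻¹ᵁ ⊤) h.1) Γ(W, O') :=
      Spread.isLocalization_res _ hO'b hle (NoetherianSpace.isCompact _)
        (IsQuasiSeparated.of_quasiSeparatedSpace _)
    letI : Algebra S Γ(W, O') := ((W.presheaf.map (homOfLE hle).op).hom.comp φ.toRingHom).toAlgebra
    have hmap : ∀ x : S, algebraMap S Γ(W, O') x = algebraMap Γ(W, w ⁻¹ᵁ ⊤) Γ(W, O') (φ x) := fun _ => rfl
    haveI : IsLocalization.Away (algebraMap A S h.1) Γ(W, O') := by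
      refine { map_units := ?_, surj := ?_, exists_of_eq := ?_ }
      · rintro ⟨_, n, rfl⟩
        show IsUnit (algebraMap S Γ(W, O') (algebraMap A S h.1 ^ n))
        rw [map_pow, hmap, φ.commutes]
        exact (IsLocalization.Away.algebraMap_isUnit (algebraMap A Γ(W, w ⁻¹ᵁ ⊤) h.1)).pow n
      · intro z
        obtain ⟨⟨c, _, n, rfl⟩, hz⟩ :=
          IsLocalization.surj (Submonoid.powers (algebraMap A Γ(W, w ⁻¹ᵁ ⊤) h.1)) z
        obtain ⟨m, x, hx⟩ := (hiso h.1 h.2).1 c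
        refine ⟨(x, ⟨_, n + m, rfl⟩), ?_⟩
        show z * algebraMap S Γ(W, O') (algebraMap A S h.1 ^ (n + m)) = algebraMap S Γ(W, O') x
        rw [hmap, hmap, hx, Algebra.smul_def, map_mul, ← hz, map_pow, φ.commutes]
        simp only [map_pow]
        ring
      · intro a b hab
        have h0 : algebraMap Γ(W, w ⁻¹ᵁ ⊤) Γ(W, O') (φ (a - b)) = 0 := by
          rw [map_sub, map_sub, ← hmap, ← hmap, hab, sub_self]
        obtain ⟨⟨_, m, rfl⟩, hm⟩ :=
          (IsLocalization.map_eq_zero_iff (Submonoid.powers (algebraMap A Γ(W, w ⁻¹ᵁ ⊤) h.1)) Γ(W, O') _).1 h0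
        obtain ⟨k, hk⟩ := (hiso h.1 h.2).2 (h.1 ^ m • (a - b)) (by
          rw [map_smul, Algebra.smul_def, map_pow]; exact hm)
        refine ⟨⟨_, k + m, rfl⟩, ?_⟩
        show algebraMap A S h.1 ^ (k + m) * a = algebraMap A S h.1 ^ (k + m) * b
        rw [← sub_eq_zero, ← mul_sub, ← map_pow, ← Algebra.smul_def, pow_add, mul_smul]
        exact hk
    have h5 : O'.ι ≫ i = hO'aff.isoSpec.hom ≫ Spec.map (CommRingCat.ofHom (algebraMap S Γ(W, O'))) := by
      simp only [i, IsAffineOpen.isoSpec_hom]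
      rw [show CommRingCat.ofHom (algebraMap S Γ(W, O')) =
        CommRingCat.ofHom φ.toRingHom ≫ W.presheaf.map (homOfLE hle).op from rfl, Spec.map_comp]
      exact (Scheme.Opens.toSpecΓ_SpecMap_presheaf_map_top_assoc O' _).symm
    haveI : IsOpenImmersion (Spec.map (CommRingCat.ofHom (algebraMap S Γ(W, O')))) :=
      IsOpenImmersion.of_isLocalization (algebraMap A S h.1)
    rw [h5]
    refine ⟨inferInstance, ?_⟩
    rw [Scheme.Hom.comp_base, TopCat.coe_comp, Function.Surjective.range_comp (Scheme.Hom.surjective _)]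
    exact PrimeSpectrum.localization_away_comap_range _ (algebraMap A S h.1)
  obtain ⟨hio, hir⟩ := Spread.isOpenImmersion_of_pieces i O (by
      rw [Scheme.Hom.preimage_iSup]
      refine top_le_iff.1 fun p _ => ?_
      obtain ⟨h, hh, hp⟩ := hcover p
      exact Opens.mem_iSup.2 ⟨⟨h, hh⟩, by rw [hiO]; exact hp⟩)
    (fun h => (hpieces h).1) (fun h η hη => by
      obtain ⟨q, hq⟩ := (hpieces h).2.symm.subset hη
      exact ⟨(i ⁻¹ᵁ O h).ι q, (Scheme.Hom.comp_apply _ _ q).symm.trans hq⟩)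
  refine ⟨i, hio, hiy, fun η ⟨h, hh, hp⟩ => ?_⟩
  rw [hir]
  exact Opens.mem_iSup.2 ⟨⟨h, hh⟩, by rw [← hyO]; exact hp⟩

end Groth.L16.FiniteGlue
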