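import Groth.Agent.L13.Purity.Compl
import Groth.Agent.L16.FiniteGlue.Alg

/-! Finite schemes over the punctured spectrum glued with finite schemes over the completion. -/

set_option autoImplicit false
set_option linter.style.haveILetI false
set_option backward.isDefEq.respectTransparency.types false

universe u

open CategoryTheory CategoryTheory.Limits AlgebraicGeometry TopologicalSpace TensorProduct
open Groth.L13.Purity Groth.L13.Purity.Compl

namespace Groth.L16.FiniteGlue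

variable (A : Type u) [CommRing A] [IsNoetherianRing A] [IsLocalRing A]

theorem exists_model {Ah : Type u} [CommRing Ah] [Algebra A Ah] [IsNoetherianRing Ah] [Module.FaithfullyFlat A Ah]
    (hdense : ∀ c : Ah, ∃ a0 : A, c - algebraMap A Ah a0 ∈ (IsLocalRing.maximalIdeal A).map (algebraMap A Ah))
    {W WP Y' : Scheme.{u}} [AlgebraicGeometry.IsNoetherian W] [AlgebraicGeometry.IsNoetherian WP]
    [IsAffine Y'] (w : W ⟶ Spec (CommRingCat.of A))
    (y : Y' ⟶ Spec (CommRingCat.of Ah)) [IsFinite y]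
    (a : WP ⟶ W) (bb : WP ⟶ Spec (CommRingCat.of Ah))
    (H : IsPullback a bb w (Spec.map (CommRingCat.ofHom (algebraMap A Ah))))
    (j : WP ⟶ Y') [IsOpenImmersion j] (hj : j ≫ y = bb)
    (hrange : ∀ η, Spec.map (CommRingCat.ofHom (algebraMap A Ah)) (y η) ∈
      FEt.puncturedSpec A → η ∈ j.opensRange) :
    letI : Algebra A Γ(W, w ⁻¹ᵁ ⊤) := ((Scheme.ΓSpecIso (CommRingCat.of A)).inv ≫ w.app ⊤).hom.toAlgebra
    ∃ (s0 : Finset A) (_ : Ideal.span (s0 : Set A) = IsLocalRing.maximalIdeal A)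
      (S : Type u) (_ : CommRing S) (_ : Algebra A S) (φ : S →ₐ[A] Γ(W, w ⁻¹ᵁ ⊤)),
      Module.Finite A S ∧
      (∃ e : CommRingCat.of (TensorProduct A S Ah) ≅ Γ(Y', ⊤),
        CommRingCat.ofHom (Algebra.TensorProduct.includeRight : Ah →ₐ[A] TensorProduct A S Ah).toRingHom ≫ e.hom =
          (Scheme.ΓSpecIso (CommRingCat.of Ah)).inv ≫ y.appTop) ∧
      ∀ h ∈ s0, (∀ c : Γ(W, w ⁻¹ᵁ ⊤), ∃ n : ℕ, ∃ x : S, φ x = h ^ n • c) ∧
        ∀ x : S, φ x = 0 → ∃ n : ℕ, h ^ n • x = 0 := by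
  classical
  let X := Spec (CommRingCat.of A)
  let Xh := Spec (CommRingCat.of Ah)
  let sp : Xh ⟶ X := Spec.map (CommRingCat.ofHom (algebraMap A Ah))
  let U : X.Opens := FEt.puncturedSpec A
  -- rings
  let C := Γ(W, w ⁻¹ᵁ ⊤)
  let C' := Γ(WP, ⊤)
  let B := Γ(Y', ⊤)
  let iA := (Scheme.ΓSpecIso (CommRingCat.of A)).inv
  let iH := (Scheme.ΓSpecIso (CommRingCat.of Ah)).inv
  letI : Algebra A C := (iA ≫ w.app ⊤).hom.toAlgebra
  letI : Algebra Ah B := (iH ≫ y.appTop).hom.toAlgebra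
  letI : Algebra Ah C' := (iH ≫ bb.appTop).hom.toAlgebra
  letI : Algebra A B := (CommRingCat.ofHom (algebraMap A Ah) ≫ iH ≫ y.appTop).hom.toAlgebra
  letI : Algebra A C' := (CommRingCat.ofHom (algebraMap A Ah) ≫ iH ≫ bb.appTop).hom.toAlgebra
  letI : Algebra C C' := (a.appLE (w ⁻¹ᵁ ⊤) ⊤ le_top).hom.toAlgebra
  haveI : IsScalarTower A Ah B := IsScalarTower.of_algebraMap_eq' rfl
  haveI : IsScalarTower A Ah C' := IsScalarTower.of_algebraMap_eq' rfl
  have hsp : CommRingCat.ofHom (algebraMap A Ah) ≫ iH = iA ≫ sp.appTop :=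
    Scheme.ΓSpecIso_inv_naturality _
  have hsquare : iA ≫ w.app ⊤ ≫ a.appLE (w ⁻¹ᵁ ⊤) ⊤ le_top = CommRingCat.ofHom (algebraMap A Ah) ≫ iH ≫ bb.appTop := by
    rw [← Category.assoc (CommRingCat.ofHom _), hsp, Category.assoc, ← Scheme.Hom.comp_appTop]
    refine congrArg (iA ≫ ·) ?_
    have h0 : (a ≫ w).appTop = (bb ≫ sp).appTop := by rw [H.w]
    rw [← h0, Scheme.Hom.comp_appTop]
    congr 1
    exact Scheme.Hom.appLE_eq_app (f := a) (U := w ⁻¹ᵁ ⊤)
  haveI : IsScalarTower A C C' := IsScalarTower.of_algebraMap_eq' (congrArg CommRingCat.Hom.hom hsquare).symm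
  haveI : Flat sp := (HasRingHomProperty.Spec_iff (P := @Flat)).2 (RingHom.flat_algebraMap_iff.2 inferInstance)
  haveI : Algebra.IsPushout A C Ah C' := by
    have hiso := isIso_pushoutSection_of_isQuasiSeparated_of_flat_right H (US := ⊤) (UT := ⊤) (UX := w ⁻¹ᵁ ⊤)
      le_top le_rfl (UY := ⊤) (by ext; simp) (isAffineOpen_top _) (isAffineOpen_top _)
      (NoetherianSpace.isCompact _) (IsQuasiSeparated.of_quasiSeparatedSpace _)
    rw [isIso_pushoutSection_iff] at hiso
    simp only [Scheme.Hom.appLE_eq_app] at hiso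
    refine CommRingCat.isPushout_iff_isPushout.1 ?_
    refine hiso.of_iso (Scheme.ΓSpecIso (CommRingCat.of A)) (Iso.refl _) (Scheme.ΓSpecIso (CommRingCat.of Ah)) (Iso.refl _) ?_ ?_ ?_ ?_
    · simp [RingHom.algebraMap_toAlgebra, iA]
      erw [Category.comp_id]
      exact ((Scheme.ΓSpecIso (CommRingCat.of A)).hom_inv_id_assoc (w.app ⊤)).symm
    · exact (Scheme.ΓSpecIso_naturality _)
    · simp [RingHom.algebraMap_toAlgebra]; rfl
    · simp [RingHom.algebraMap_toAlgebra, iH]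
      exact Scheme.Hom.appLE_eq_app (f := bb) (U := ⊤)
  haveI : Algebra.IsPushout A Ah C C' := Algebra.IsPushout.symm inferInstance
  haveI : Module.Finite Ah B := RingHom.finite_algebraMap.1
    ((Scheme.Hom.finite_appTop y).comp (RingHom.Finite.of_surjective _ (ConcreteCategory.bijective_of_isIso iH).2))
  let ρ : B →ₐ[Ah] C' :=
    { j.appTop.hom with
      commutes' := fun r => by
        show (iH ≫ y.appTop ≫ j.appTop).hom r = (iH ≫ bb.appTop).hom r
        rw [← Scheme.Hom.comp_appTop, hj] }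
  obtain ⟨s0, hs0⟩ := (IsLocalRing.maximalIdeal A).fg_of_isNoetherianRing
  have hsm : ∀ h ∈ s0, h ∈ IsLocalRing.maximalIdeal A := fun h hh => hs0 ▸ Submodule.subset_span hh
  have hbo : ∀ h : A, X.basicOpen (iA.hom h) = PrimeSpectrum.basicOpen h := fun h => basicOpen_eq_of_affine (R := CommRingCat.of A) h
  have hUle : ∀ h ∈ s0, X.basicOpen (iA.hom h) ≤ U := by
    intro h hh
    rw [hbo]
    intro q hq
    show q ≠ IsLocalRing.closedPoint A
    rintro rfl
    exact hq (hsm h hh)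
  have hkey : ∀ h ∈ s0, (∀ c : C', ∃ n : ℕ, ∃ b : B, ρ b = h ^ n • c) ∧
      (∀ b : B, ρ b = 0 → ∃ n : ℕ, h ^ n • b = 0) := by
    intro h hh
    have hρh : j.appTop.hom (algebraMap A B h) = algebraMap A C' h := by
      rw [IsScalarTower.algebraMap_apply A Ah B, IsScalarTower.algebraMap_apply A Ah C']
      exact ρ.commutes _
    have hle2 : Y'.basicOpen (algebraMap A B h) ≤ j.opensRange := by
      intro η hη
      have hη2 : sp (y η) ∈ U := by
        apply hUle h hh
        refine mem_basicOpen_comp y sp (iA.hom h) η ?_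
        have hq : iH.hom (algebraMap A Ah h) = sp.appTop.hom (iA.hom h) :=
          DFunLike.congr_fun (congrArg CommRingCat.Hom.hom hsp) h
        have : algebraMap A B h = y.appTop.hom (sp.appTop.hom (iA.hom h)) := by
          rw [← hq]
          rfl
        rw [this] at hη
        exact hη
      exact hrange η hη2
    obtain ⟨k1, k2⟩ := sections_of_open_immersion j (algebraMap A B h) hle2
    refine ⟨fun c => ?_, fun b' hb' => ?_⟩
    · obtain ⟨n, b', hb'⟩ := k1 c
      refine ⟨n, b', ?_⟩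
      rw [hρh, ← map_pow, ← Algebra.smul_def] at hb'
      exact hb'
    · obtain ⟨n, hn⟩ := k2 b' hb'
      exact ⟨n, by rw [Algebra.smul_def, map_pow]; exact hn⟩
  obtain ⟨S, _, _, φ, hSfin, ⟨eS⟩, hSiso⟩ := exists_glue (C := C) (C' := C') (IsLocalRing.maximalIdeal A)
    hdense ρ s0 ((Ideal.le_radical).trans_eq (by rw [show Ideal.span (s0 : Set A) = _ from hs0]))
    (fun h hh => (hkey h hh).1) (fun h hh => (hkey h hh).2)
  let e1 : TensorProduct A S Ah ≃+* B := (Algebra.TensorProduct.comm A S Ah).toRingEquiv.trans eS.toRingEquiv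
  refine ⟨s0, hs0, S, inferInstance, inferInstance, φ, hSfin, ⟨e1.toCommRingCatIso, ?_⟩, hSiso⟩
  ext r
  show eS (Algebra.TensorProduct.comm A S Ah ((1 : S) ⊗ₜ[A] r)) = algebraMap Ah B r
  rw [Algebra.TensorProduct.comm_tmul]
  exact eS.commutes r

end Groth.L16.FiniteGlue
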